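import Groth.Agent.Lib.Serre.Smooth
import Groth.Agent.Lib.CMFree.Regular
import Groth.Prelude.Def_Found
import Mathlib.RingTheory.Nilpotent.GeometricallyReduced
import Mathlib.RingTheory.Artinian.Ring
import Mathlib.RingTheory.TensorProduct.Maps

/-!
# Geometrically regular algebras: smooth ascent, the case of fields
-/

universe u

open TensorProduct

namespace GrothLib.GeomReg

/-- Regularity ascends along smooth maps. -/
theorem isRegularRing_of_smooth (R S : Type u) [CommRing R] [CommRing S] [Algebra R S]
    [IsRegularRing R] [Algebra.Smooth R S] : IsRegularRing S := by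
  have : IsNoetherianRing S := Algebra.FiniteType.isNoetherianRing R S
  refine GrothLib.Serre.isRegularRing_of_flat_of_fibres R S fun p _ => ?_
  have hfin : Algebra.FiniteType p.ResidueField (p.Fiber S) := inferInstance
  have : IsNoetherianRing (p.Fiber S) := Algebra.FiniteType.isNoetherianRing p.ResidueField _
  rw [isRegularRing_iff]
  intro q _
  have : Algebra.IsSmoothAt p.ResidueField q :=
    have : Algebra.FormallyEtale (p.Fiber S) (Localization.AtPrime q) :=
      .of_isLocalization q.primeCompl
    Algebra.FormallySmooth.comp p.ResidueField (p.Fiber S) (Localization.AtPrime q)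
  exact GrothLib.Serre.isRegularLocalRing_of_isSmoothAt (k := p.ResidueField) q

/-- A reduced Artinian ring is regular. -/
theorem isRegularRing_of_isArtinian_of_isReduced (A : Type u) [CommRing A] [IsArtinianRing A]
    [IsReduced A] : IsRegularRing A := by
  rw [isRegularRing_iff]
  intro p _
  let _ := (IsArtinianRing.isField_of_isReduced_of_isLocalRing (Localization.AtPrime p)).toField
  infer_instance

variable {k : Type u} [Field k] {A : Type u} [CommRing A] [Algebra k A]

theorem isRegularRing_comm {k' : Type u} [Field k'] [Algebra k k'] :
    IsRegularRing (k' ⊗[k] A) ↔ IsRegularRing (A ⊗[k] k') :=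
  ⟨fun _ => IsRegularRing.of_ringEquiv (R := k' ⊗[k] A) (Algebra.TensorProduct.comm k k' A).toRingEquiv,
    fun _ => IsRegularRing.of_ringEquiv (R := A ⊗[k] k') (Algebra.TensorProduct.comm k A k').toRingEquiv⟩

/-- Geometric regularity ascends along smooth maps. -/
theorem isGeometricallyRegular_of_smooth {B : Type u} [CommRing B] [Algebra k B] [Algebra A B]
    [IsScalarTower k A B] [Algebra.Smooth A B] (hA : CAlg.IsGeometricallyRegular k A) :
    CAlg.IsGeometricallyRegular k B := by
  intro k' _ _ hk'
  have : IsRegularRing (A ⊗[k] k') := isRegularRing_comm.1 (hA k' hk')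
  have : IsRegularRing ((A ⊗[k] k') ⊗[A] B) := isRegularRing_of_smooth (A ⊗[k] k') _
  have : IsRegularRing (B ⊗[A] (A ⊗[k] k')) :=
    IsRegularRing.of_ringEquiv (R := (A ⊗[k] k') ⊗[A] B)
      (Algebra.TensorProduct.comm A (A ⊗[k] k') B).toRingEquiv
  rw [isRegularRing_comm]
  exact IsRegularRing.of_ringEquiv (R := B ⊗[A] (A ⊗[k] k'))
    (Algebra.TensorProduct.cancelBaseChange k A B B k').toRingEquiv

/-- A field extension is geometrically regular iff it is geometrically reduced. -/
theorem isGeometricallyRegular_field_iff {K : Type u} [Field K] [Algebra k K] :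
    CAlg.IsGeometricallyRegular k K ↔ Algebra.IsGeometricallyReduced k K := by
  constructor
  · intro h
    rw [Algebra.isGeometricallyReduced_field_iff]
    suffices IsReduced (K ⊗[k] AlgebraicClosure k) from
      isReduced_of_injective _ (Algebra.TensorProduct.comm k (AlgebraicClosure k) K).injective
    refine IsReduced.tensorProduct_of_flat_of_forall_fg fun B hB => ?_
    have : Algebra.IsIntegral k B := by
      have : Algebra.IsAlgebraic k (AlgebraicClosure k) := inferInstance
      exact ⟨fun x => (isIntegral_algHom_iff B.val Subtype.val_injective).1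
        (Algebra.IsIntegral.isIntegral (x : AlgebraicClosure k))⟩
    have : Algebra.FiniteType k B := B.fg_iff_finiteType.1 hB
    have : Module.Finite k B := Algebra.IsIntegral.finite
    let _ : Field B := (isField_of_isIntegral_of_isField' (R := k) (Field.toIsField k)).toField
    have : IsRegularRing (K ⊗[k] B) := isRegularRing_comm.1 (h B this)
    refine ⟨fun x hx => ?_⟩
    refine Module.eq_zero_of_localization_maximal (R := K ⊗[k] B)
      (fun P _ => Localization.AtPrime P) (fun P _ => Algebra.linearMap _ _) x fun P _ => ?_
    have : IsRegularLocalRing (Localization.AtPrime P) :=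
      IsRegularRing.isRegularLocalRing_localization _
    have : IsDomain (Localization.AtPrime P) :=
      GrothLib.CMFree.isDomain_of_isRegularLocalRing (Localization.AtPrime P)
    exact (hx.map (algebraMap (K ⊗[k] B) (Localization.AtPrime P))).eq_zero
  · intro h k' _ _ hk'
    rw [isRegularRing_comm]
    have : Algebra.IsAlgebraic k k' := Algebra.IsAlgebraic.of_finite k k'
    have : IsReduced (K ⊗[k] k') :=
      isReduced_of_injective _ (Algebra.TensorProduct.comm k K k').injective
    have : IsArtinianRing (K ⊗[k] k') := IsArtinianRing.of_finite K _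
    exact isRegularRing_of_isArtinian_of_isReduced _

end GrothLib.GeomReg
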