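import Groth.Agent.Lib.GeomReg.Local
import Groth.Agent.Lib.AdicExtra.Local
import Groth.Agent.Lib.AdicExtra.FiniteAlg
import Groth.Prelude.Def_EGA4b
import Mathlib.RingTheory.AdicCompletion.RingHom

/-!
# Finite algebras over G-rings and over excellent rings
-/

universe u

open TensorProduct IsLocalRing

noncomputable section

namespace GrothLib.GeomReg

/-- The map of completions induced by a local homomorphism. -/
theorem exists_completion_map (A B : Type u) [CommRing A] [CommRing B] [IsLocalRing A]
    [IsLocalRing B] [IsNoetherianRing B] [Algebra A B] [IsLocalHom (algebraMap A B)] :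
    ∃ ψ : AdicCompletion (maximalIdeal A) A →+* AdicCompletion (maximalIdeal B) B,
      ψ.comp (algebraMap A (AdicCompletion (maximalIdeal A) A)) =
        (algebraMap B (AdicCompletion (maximalIdeal B) B)).comp (algebraMap A B) := by
  have hle : ∀ n, maximalIdeal A ^ n ≤ (maximalIdeal B ^ n).comap (algebraMap A B) := fun n => by
    rw [← Ideal.map_le_iff_le_comap, Ideal.map_pow]
    exact Ideal.pow_right_mono (((local_hom_TFAE _).out 0 2 rfl rfl).mp ‹_›) n
  let f : (n : ℕ) → AdicCompletion (maximalIdeal A) A →+* B ⧸ maximalIdeal B ^ n := fun n =>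
    (Ideal.quotientMap _ (algebraMap A B) (hle n)).comp
      (AdicCompletion.evalₐ (maximalIdeal A) n).toRingHom
  refine ⟨AdicCompletion.liftRingHom (maximalIdeal B) f (fun {m n} hmn => RingHom.ext fun x => ?_),
    RingHom.ext fun a => AdicCompletion.ext_evalₐ fun n => ?_⟩
  · obtain ⟨a, ha⟩ := Ideal.Quotient.mk_surjective (AdicCompletion.evalₐ (maximalIdeal A) n x)
    have h2 : AdicCompletion.evalₐ (maximalIdeal A) m x = Ideal.Quotient.mk _ a := by
      obtain ⟨c, rfl⟩ := AdicCompletion.mk_surjective _ _ x
      rw [AdicCompletion.evalₐ_mk] at ha ⊢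
      rw [Ideal.Quotient.eq] at ha
      rw [Ideal.Quotient.eq]
      have h3 : c.val n - c.val m ∈ maximalIdeal A ^ m := by
        have := (c.2 hmn).symm
        rw [SModEq.sub_mem] at this
        simpa using this
      have h4 : a - c.val m = (a - c.val n) + (c.val n - c.val m) := by ring
      have := add_mem (Ideal.pow_le_pow_right hmn ha) h3
      rw [← h4] at this
      simpa using neg_mem this
    show Ideal.Quotient.factor (Ideal.pow_le_pow_right hmn)
        (Ideal.quotientMap _ (algebraMap A B) (hle n) (AdicCompletion.evalₐ (maximalIdeal A) n x)) =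
      Ideal.quotientMap _ (algebraMap A B) (hle m) (AdicCompletion.evalₐ (maximalIdeal A) m x)
    rw [← ha, h2]
    rfl
  · rw [RingHom.comp_apply, AdicCompletion.evalₐ_liftRingHom]
    simp [f, AdicCompletion.algebraMap_apply]

/-- If every element of `F` is, up to a denominator from the base, congruent to one of `D` modulo
`q`, then the local ring of `F` at a prime over `q` has the same maximal ideal and residue field as
that of `D`. -/
theorem fibre_of_fractions {A D F : Type u} [CommRing A] [CommRing D] [CommRing F] [Algebra A D]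
    [Algebra D F] [Algebra A F] [IsScalarTower A D F] (q : Ideal D) [q.IsPrime] (M : Ideal F)
    [M.IsPrime] (hMq : M.comap (algebraMap D F) = q)
    (hfr : ∀ f : F, ∃ s ∉ q.comap (algebraMap A D), ∃ d : D,
      algebraMap A F s * f - algebraMap D F d ∈ q.map (algebraMap D F))
    [Algebra (Localization.AtPrime q) (Localization.AtPrime M)]
    [IsScalarTower D (Localization.AtPrime q) (Localization.AtPrime M)] :
    (maximalIdeal (Localization.AtPrime q)).map
        (algebraMap (Localization.AtPrime q) (Localization.AtPrime M)) =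
      maximalIdeal (Localization.AtPrime M) ∧
    ∀ y : Localization.AtPrime M, ∃ x, algebraMap (Localization.AtPrime q) (Localization.AtPrime M) x - y ∈
      maximalIdeal (Localization.AtPrime M) := by
  have hmax : (maximalIdeal (Localization.AtPrime q)).map
      (algebraMap (Localization.AtPrime q) (Localization.AtPrime M)) =
      (q.map (algebraMap D F)).map (algebraMap F (Localization.AtPrime M)) := by
    rw [← Localization.AtPrime.map_eq_maximalIdeal, Ideal.map_map, ← IsScalarTower.algebraMap_eq,
      IsScalarTower.algebraMap_eq D F (Localization.AtPrime M), Ideal.map_map]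
  have hle : q.map (algebraMap D F) ≤ M := Ideal.map_le_iff_le_comap.mpr hMq.ge
  have hs : ∀ s ∉ q.comap (algebraMap A D), algebraMap A F s ∉ M := fun s hs hm => hs (by
    show algebraMap A D s ∈ q
    rw [← hMq, Ideal.mem_comap, ← IsScalarTower.algebraMap_apply]
    exact hm)
  refine ⟨?_, fun y => ?_⟩
  · rw [hmax, ← Localization.AtPrime.map_eq_maximalIdeal]
    refine le_antisymm (Ideal.map_mono hle) (Ideal.map_le_iff_le_comap.mpr fun f hf => ?_)
    obtain ⟨s, hs', d, hd⟩ := hfr f
    have h1 : algebraMap D F d ∈ M := by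
      simpa using sub_mem (M.mul_mem_left (algebraMap A F s) hf) (hle hd)
    have h2 : algebraMap A F s * f ∈ q.map (algebraMap D F) := by
      simpa using add_mem hd (Ideal.mem_map_of_mem (algebraMap D F) (hMq ▸ h1 : d ∈ q))
    have h3 := Ideal.mem_map_of_mem (algebraMap F (Localization.AtPrime M)) h2
    rw [map_mul] at h3
    exact (Ideal.unit_mul_mem_iff_mem _
      ((IsLocalization.AtPrime.isUnit_to_map_iff (Localization.AtPrime M) M _).mpr (hs s hs'))).mp h3
  · obtain ⟨⟨f, g⟩, hfg⟩ := IsLocalization.surj M.primeCompl y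
    have key : ∀ f : F, ∃ z : Localization.AtPrime q,
        algebraMap (Localization.AtPrime q) (Localization.AtPrime M) z - algebraMap F _ f ∈
          maximalIdeal (Localization.AtPrime M) := by
      intro f
      obtain ⟨s, hs', d, hd⟩ := hfr f
      have hsq : algebraMap A D s ∈ q.primeCompl := hs'
      refine ⟨IsLocalization.mk' _ d ⟨algebraMap A D s, hsq⟩, ?_⟩
      refine (Ideal.unit_mul_mem_iff_mem _
        ((IsLocalization.AtPrime.isUnit_to_map_iff (Localization.AtPrime M) M _).mpr (hs s hs'))).mp ?_
      have h5 := congrArg (algebraMap (Localization.AtPrime q) (Localization.AtPrime M))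
        (IsLocalization.mk'_spec (Localization.AtPrime q) d ⟨algebraMap A D s, hsq⟩)
      have e1 : ∀ x : D, algebraMap (Localization.AtPrime q) (Localization.AtPrime M)
          (algebraMap D (Localization.AtPrime q) x) =
          algebraMap F (Localization.AtPrime M) (algebraMap D F x) := fun x => by
        rw [← IsScalarTower.algebraMap_apply, ← IsScalarTower.algebraMap_apply]
      rw [map_mul, e1, e1, ← IsScalarTower.algebraMap_apply A D F, mul_comm] at h5
      rw [mul_sub, h5, ← map_mul, ← map_sub, ← Localization.AtPrime.map_eq_maximalIdeal]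
      refine Ideal.mem_map_of_mem _ (hle ?_)
      simpa using neg_mem hd
    obtain ⟨zf, hzf⟩ := key f
    obtain ⟨zg, hzg⟩ := key g
    have hzu : IsUnit (algebraMap (Localization.AtPrime q) (Localization.AtPrime M) zg) := by
      by_contra hn
      refine ((mem_maximalIdeal _).mp ?_) (IsLocalization.map_units (Localization.AtPrime M) g)
      simpa using sub_mem ((mem_maximalIdeal _).mpr hn) hzg
    have hzu' : IsUnit zg := by
      by_contra hn
      have := Ideal.mem_map_of_mem (algebraMap (Localization.AtPrime q) (Localization.AtPrime M))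
        ((mem_maximalIdeal _).mpr hn)
      rw [hmax] at this
      exact (maximalIdeal.isMaximal _).ne_top (Ideal.eq_top_of_isUnit_mem _
        ((Localization.AtPrime.map_eq_maximalIdeal (I := M)).le (Ideal.map_mono hle this)) hzu)
    obtain ⟨u, hu⟩ := hzu'.exists_left_inv
    refine ⟨u * zf, (Ideal.unit_mul_mem_iff_mem _ hzu).mp ?_⟩
    have h6 : ∀ α : Localization.AtPrime q →+* Localization.AtPrime M, α zg * (α (u * zf) - y) =
        (α zf - algebraMap F _ f) - y * (α zg - algebraMap F _ g) := fun α => by
      have h7 : α zg * α (u * zf) = α zf := by rw [← map_mul, ← mul_assoc, mul_comm zg u, hu, one_mul]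
      rw [mul_sub, h7, ← hfg]
      ring
    rw [h6]
    exact sub_mem hzf (Ideal.mul_mem_left _ _ hzg)

/-- Elements of the base change to a local ring with residue field that of the base are congruent
to fractions of elements of the algebra. -/
theorem exists_frac_congr {A D Q : Type u} [CommRing A] [CommRing D] [Algebra A D] [CommRing Q]
    [IsLocalRing Q] [Algebra A Q] (q : Ideal D) [q.IsPrime]
    (hmax : maximalIdeal Q = (q.comap (algebraMap A D)).map (algebraMap A Q))
    (hfrac : ∀ r : Q, ∃ s ∉ q.comap (algebraMap A D), ∃ a : A,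
      algebraMap A Q s * r - algebraMap A Q a ∈ maximalIdeal Q) (f : D ⊗[A] Q) :
    ∃ s ∉ q.comap (algebraMap A D), ∃ d : D, algebraMap A (D ⊗[A] Q) s * f -
      algebraMap D (D ⊗[A] Q) d ∈ q.map (algebraMap D (D ⊗[A] Q)) := by
  set qF := q.map (algebraMap D (D ⊗[A] Q))
  have hpF : ∀ (d : D) (r : Q), r ∈ maximalIdeal Q → d ⊗ₜ[A] r ∈ qF := by
    intro d r hr
    rw [hmax] at hr
    refine Submodule.span_induction (p := fun r _ => d ⊗ₜ[A] r ∈ qF) ?_ ?_ ?_ ?_ hr
    · rintro _ ⟨a, ha, rfl⟩
      rw [show d ⊗ₜ[A] algebraMap A Q a = algebraMap D (D ⊗[A] Q) (algebraMap A D a) * (d ⊗ₜ 1) by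
        rw [Algebra.algebraMap_eq_smul_one, tmul_smul, Algebra.TensorProduct.algebraMap_apply,
          Algebra.algebraMap_self, RingHom.id_apply, Algebra.TensorProduct.tmul_mul_tmul, one_mul,
          smul_tmul', Algebra.smul_def]]
      exact Ideal.mul_mem_right _ _ (Ideal.mem_map_of_mem _ ha)
    · rw [tmul_zero]; exact zero_mem _
    · intro x y _ _ hx hy
      rw [tmul_add]; exact add_mem hx hy
    · intro c x _ hx
      rw [show d ⊗ₜ[A] (c • x) = ((1 : D) ⊗ₜ[A] c) * (d ⊗ₜ[A] x) by simp]
      exact Ideal.mul_mem_left _ _ hx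
  induction f using TensorProduct.induction_on with
  | zero =>
    exact ⟨1, fun h1 => (Ideal.IsPrime.ne_top inferInstance) ((Ideal.eq_top_iff_one _).mpr h1), 0,
      by simp⟩
  | add f g hf hg =>
    obtain ⟨s, hs, d, hd⟩ := hf
    obtain ⟨s', hs', d', hd'⟩ := hg
    refine ⟨s * s', fun h => (Ideal.IsPrime.mem_or_mem inferInstance h).elim hs hs',
      algebraMap A D s' * d + algebraMap A D s * d', ?_⟩
    have h1 := add_mem (qF.mul_mem_left (algebraMap A (D ⊗[A] Q) s') hd)
      (qF.mul_mem_left (algebraMap A (D ⊗[A] Q) s) hd')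
    convert h1 using 1
    rw [map_add, map_mul, map_mul, map_mul, ← IsScalarTower.algebraMap_apply,
      ← IsScalarTower.algebraMap_apply]
    ring
  | tmul d r =>
    obtain ⟨s, hs, a, ha⟩ := hfrac r
    refine ⟨s, hs, algebraMap A D a * d, ?_⟩
    have h1 := hpF d _ ha
    convert h1 using 1
    rw [tmul_sub, map_mul, ← IsScalarTower.algebraMap_apply]
    congr 1
    · rw [Algebra.algebraMap_eq_smul_one, ← Algebra.smul_def, smul_mul_assoc, one_mul, ← tmul_smul]
    · rw [Algebra.algebraMap_eq_smul_one (A := Q), tmul_smul,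
        Algebra.TensorProduct.algebraMap_apply (r := d), Algebra.algebraMap_self, RingHom.id_apply,
        ← Algebra.smul_def]

/-- Transfer of regularity along a bijective map of completions into a complete local ring. -/
theorem isRegularHom_completion_of_bijective {R T : Type u} [CommRing R] [CommRing T]
    [IsLocalRing R] [IsLocalRing T] [IsAdicComplete (maximalIdeal T) T] [Algebra R T]
    (h : CAlg.IsRegularHom R T)
    (ψ : AdicCompletion (maximalIdeal R) R →+* AdicCompletion (maximalIdeal T) T)
    (hψ : ψ.comp (algebraMap R (AdicCompletion (maximalIdeal R) R)) =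
      (algebraMap T (AdicCompletion (maximalIdeal T) T)).comp (algebraMap R T))
    (hbij : Function.Bijective ψ) :
    CAlg.IsRegularHom R (AdicCompletion (maximalIdeal R) R) := by
  let e : AdicCompletion (maximalIdeal R) R ≃+* T :=
    (RingEquiv.ofBijective ψ hbij).trans (AdicCompletion.ofAlgEquiv (maximalIdeal T)).symm.toRingEquiv
  letI : Algebra (AdicCompletion (maximalIdeal R) R) T := e.toRingHom.toAlgebra
  haveI : IsScalarTower R (AdicCompletion (maximalIdeal R) R) T :=
    IsScalarTower.of_algebraMap_eq fun x => by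
      show algebraMap R T x = (AdicCompletion.ofAlgEquiv (maximalIdeal T)).symm (ψ _)
      rw [show ψ (algebraMap R _ x) = algebraMap T _ (algebraMap R T x) from RingHom.congr_fun hψ x,
        AdicCompletion.algebraMap_apply]
      exact (AdicCompletion.ofAlgEquiv_symm_of (maximalIdeal T) _).symm
  let eC : AdicCompletion (maximalIdeal R) R ≃ₐ[AdicCompletion (maximalIdeal R) R] T :=
    AlgEquiv.ofBijective (Algebra.ofId _ T) e.bijective
  haveI : Module.FaithfullyFlat (AdicCompletion (maximalIdeal R) R) T :=
    .of_linearEquiv _ _ eC.toLinearEquiv.symm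
  exact isRegularHom_of_faithfullyFlat h

/-- Regularity of the completion map of a local ring of a finite algebra, from a complete local
ring regular over the base. -/
theorem isRegularHom_completion_of_model {A D Q : Type u} [CommRing A] [CommRing D] [Algebra A D]
    [Module.Finite A D] [CommRing Q] [IsLocalRing Q] [IsNoetherianRing Q]
    [IsAdicComplete (maximalIdeal Q) Q] [Algebra A Q] [IsNoetherianRing D] (q : Ideal D) [q.IsPrime]
    (hmax : maximalIdeal Q = (q.comap (algebraMap A D)).map (algebraMap A Q))
    (hfrac : ∀ r : Q, ∃ s ∉ q.comap (algebraMap A D), ∃ a : A,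
      algebraMap A Q s * r - algebraMap A Q a ∈ maximalIdeal Q)
    (ρ : Q →ₐ[A] q.ResidueField) (hρ : ∀ r ∈ maximalIdeal Q, ρ r = 0)
    (hreg : CAlg.IsRegularHom A Q) :
    CAlg.IsRegularHom (Localization.AtPrime q)
      (AdicCompletion (maximalIdeal (Localization.AtPrime q)) (Localization.AtPrime q)) := by
  let eF : (Q ⊗[A] D) ≃ₐ[A] D ⊗[A] Q := Algebra.TensorProduct.comm A Q D
  letI : Algebra Q (D ⊗[A] Q) := Algebra.TensorProduct.rightAlgebra
  haveI : Module.Finite Q (D ⊗[A] Q) :=
    Module.Finite.equiv ({ eF with
      commutes' := fun r => by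
        show eF (r ⊗ₜ 1) = algebraMap Q (D ⊗[A] Q) r
        rfl } : (Q ⊗[A] D) ≃ₐ[Q] D ⊗[A] Q).toLinearEquiv
  have hF : CAlg.IsRegularHom D (D ⊗[A] Q) := isRegularHom_baseChange hreg
  let Φ : D ⊗[A] Q →ₐ[A] q.ResidueField :=
    Algebra.TensorProduct.lift (IsScalarTower.toAlgHom A D q.ResidueField) ρ fun _ _ => Commute.all _ _
  let M := RingHom.ker Φ.toRingHom
  have hΦ : ∀ d r, Φ (d ⊗ₜ r) = algebraMap D q.ResidueField d * ρ r := fun _ _ => rfl
  haveI : M.IsPrime := RingHom.ker_isPrime _
  have hMq : M.comap (algebraMap D (D ⊗[A] Q)) = q := by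
    ext d
    show Φ (algebraMap D (D ⊗[A] Q) d) = 0 ↔ _
    rw [Algebra.TensorProduct.algebraMap_apply, Algebra.algebraMap_self, RingHom.id_apply, hΦ,
      map_one, mul_one]
    exact Ideal.algebraMap_residueField_eq_zero
  haveI : Algebra.IsIntegral Q (D ⊗[A] Q) := Algebra.IsIntegral.of_finite Q (D ⊗[A] Q)
  have hcomap : M.comap (algebraMap Q (D ⊗[A] Q)) = maximalIdeal Q := by
    refine ((maximalIdeal.isMaximal Q).eq_of_le (Ideal.IsPrime.ne_top inferInstance) ?_).symm
    intro r hr
    show Φ ((1 : D) ⊗ₜ r) = 0
    rw [hΦ, hρ r hr, mul_zero]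
  haveI hMmax : M.IsMaximal :=
    Ideal.isMaximal_of_isIntegral_of_isMaximal_comap (R := Q) M (hcomap ▸ maximalIdeal.isMaximal Q)
  haveI : IsNoetherianRing (D ⊗[A] Q) := IsNoetherianRing.of_finite Q (D ⊗[A] Q)
  haveI : IsNoetherianRing (Localization.AtPrime M) :=
    IsLocalization.isNoetherianRing M.primeCompl _ inferInstance
  haveI := ((GrothLib.AdicExtra.finite_algebra_pi_localizations Q (D ⊗[A] Q)).2.2 ⟨M, hMmax⟩).2
  haveI : IsNoetherianRing (Localization.AtPrime q) :=
    IsLocalization.isNoetherianRing q.primeCompl _ inferInstance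
  have hu : ∀ y : q.primeCompl, IsUnit (algebraMap D (Localization.AtPrime M) y) := fun y => by
    rw [IsScalarTower.algebraMap_apply D (D ⊗[A] Q) (Localization.AtPrime M),
      IsLocalization.AtPrime.isUnit_to_map_iff _ M]
    exact fun hy => y.2 ((SetLike.ext_iff.mp hMq (y : D)).mp hy)
  letI : Algebra (Localization.AtPrime q) (Localization.AtPrime M) :=
    (IsLocalization.lift (M := q.primeCompl) (S := Localization.AtPrime q) hu).toAlgebra
  haveI : IsScalarTower D (Localization.AtPrime q) (Localization.AtPrime M) :=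
    IsScalarTower.of_algebraMap_eq fun x => (IsLocalization.lift_eq hu x).symm
  have hDqT : CAlg.IsRegularHom (Localization.AtPrime q) (Localization.AtPrime M) :=
    (isRegularHom_localization_left (R := D) (R' := Localization.AtPrime q) q.primeCompl).mpr
      (isRegularHom_localization_right hF M.primeCompl)
  haveI : Module.Flat (Localization.AtPrime q) (Localization.AtPrime M) := hDqT.1
  obtain ⟨hqT, hres⟩ := fibre_of_fractions (A := A) q M hMq (exists_frac_congr q hmax hfrac)
  haveI : IsLocalHom (algebraMap (Localization.AtPrime q) (Localization.AtPrime M)) :=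
    ((local_hom_TFAE _).out 0 2 rfl rfl).mpr hqT.le
  have hk : Function.Bijective (ResidueField.map (R := Localization.AtPrime q)
      (S := Localization.AtPrime M) (algebraMap (Localization.AtPrime q) (Localization.AtPrime M))) := by
    refine ⟨RingHom.injective _, fun x => ?_⟩
    obtain ⟨t, rfl⟩ := residue_surjective x
    obtain ⟨z, hz⟩ := hres t
    exact ⟨residue _ z, (ResidueField.map_residue _ z).trans (Ideal.Quotient.eq.mpr hz)⟩
  obtain ⟨ψ, hψ⟩ := exists_completion_map (Localization.AtPrime q) (Localization.AtPrime M)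
  exact isRegularHom_completion_of_bijective hDqT ψ hψ
    (GrothLib.AdicExtra.bijective_completion ψ hψ hqT hk)

/-- A finite algebra over a G-ring is a G-ring. -/
theorem isGRing_of_finite (A D : Type u) [CommRing A] [CommRing D] [Algebra A D] [Module.Finite A D]
    (h : CAlg.IsGRing A) : CAlg.IsGRing D := by
  haveI := h.1
  haveI : IsNoetherianRing D := IsNoetherianRing.of_finite A D
  refine ⟨inferInstance, fun q _ => ?_⟩
  let p := q.comap (algebraMap A D)
  haveI : IsNoetherianRing (Localization.AtPrime p) :=
    IsLocalization.isNoetherianRing p.primeCompl _ inferInstance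
  let Q := AdicCompletion (maximalIdeal (Localization.AtPrime p)) (Localization.AtPrime p)
  letI : Algebra p.ResidueField q.ResidueField :=
    (Ideal.ResidueField.mapₐ p q (Algebra.ofId A D) rfl).toRingHom.toAlgebra
  haveI : IsScalarTower A p.ResidueField q.ResidueField :=
    IsScalarTower.of_algebraMap_eq fun x =>
      ((Ideal.ResidueField.mapₐ p q (Algebra.ofId A D) rfl).commutes x).symm
  let ρ₀ : Localization.AtPrime p →ₐ[A] q.ResidueField :=
    (IsScalarTower.toAlgHom A p.ResidueField q.ResidueField).comp
      (IsScalarTower.toAlgHom A (Localization.AtPrime p) p.ResidueField)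
  let ρ : Q →ₐ[A] q.ResidueField :=
    (Ideal.Quotient.liftₐ (maximalIdeal (Localization.AtPrime p)) ρ₀ fun a ha => by
      show algebraMap p.ResidueField q.ResidueField (residue (Localization.AtPrime p) a) = 0
      rw [(residue_eq_zero_iff a).mpr ha, map_zero]).comp
      ((AdicCompletion.evalOneₐ (maximalIdeal (Localization.AtPrime p))).restrictScalars A)
  have hmax : maximalIdeal Q = p.map (algebraMap A Q) := calc
    maximalIdeal Q = (maximalIdeal (Localization.AtPrime p)).map (algebraMap _ Q) :=
      AdicCompletion.maximalIdeal_eq_map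
    _ = (p.map (algebraMap A (Localization.AtPrime p))).map (algebraMap _ Q) :=
      congrArg (Ideal.map _) Localization.AtPrime.map_eq_maximalIdeal.symm
    _ = p.map (algebraMap A Q) := by rw [Ideal.map_map, ← IsScalarTower.algebraMap_eq]
  refine isRegularHom_completion_of_model q hmax (fun r => ?_) ρ (fun r hr => ?_)
    ((isRegularHom_localization_left (R := A) (R' := Localization.AtPrime p) p.primeCompl).mp (h.2 p))
  · obtain ⟨y, hy⟩ :=
      (AdicCompletion.residueField_map_bijective (Localization.AtPrime p)).2 (residue Q r)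
    obtain ⟨r₀, rfl⟩ := residue_surjective y
    obtain ⟨⟨a, s⟩, has⟩ := IsLocalization.surj p.primeCompl r₀
    refine ⟨s, s.2, a, ?_⟩
    have hr₀ : r - algebraMap _ Q r₀ ∈ maximalIdeal Q := by
      rw [← residue_eq_zero_iff, map_sub, ← hy, ResidueField.map_residue, sub_self]
    have h2 : algebraMap A Q a = algebraMap A Q (s : A) * algebraMap _ Q r₀ := by
      rw [IsScalarTower.algebraMap_apply A (Localization.AtPrime p) Q a,
        IsScalarTower.algebraMap_apply A (Localization.AtPrime p) Q (s : A), ← map_mul,
        mul_comm (algebraMap A (Localization.AtPrime p) (s : A)), has]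
    rw [h2, ← mul_sub]
    exact Ideal.mul_mem_left _ _ hr₀
  · rw [hmax] at hr
    refine (Ideal.map_le_iff_le_comap.mpr fun a ha => ?_ :
      p.map (algebraMap A Q) ≤ RingHom.ker ρ.toRingHom) hr
    show ρ (algebraMap A Q a) = 0
    rw [ρ.commutes, IsScalarTower.algebraMap_apply A D q.ResidueField]
    exact Ideal.algebraMap_residueField_eq_zero.mpr ha

/-- A finite algebra over an excellent ring is excellent. -/
theorem isExcellent_of_finite (A D : Type u) [CommRing A] [CommRing D] [Algebra A D]
    [Module.Finite A D] (h : EGA4.IsExcellent A) : EGA4.IsExcellent D := by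
  haveI := h.1
  haveI : IsNoetherianRing D := IsNoetherianRing.of_finite A D
  refine ⟨inferInstance, ⟨inferInstance, fun S _ _ hS => ?_⟩, isGRing_of_finite A D h.2.2.1,
    fun S _ _ hS => ?_⟩
  all_goals
    letI : Algebra A S := ((algebraMap D S).comp (algebraMap A D)).toAlgebra
    haveI : IsScalarTower A D S := IsScalarTower.of_algebraMap_eq fun _ => rfl
    haveI hAS : Algebra.FiniteType A S := Algebra.FiniteType.trans (R := A) (S := D) inferInstance hS
  · exact h.2.1.2 S hAS
  · exact h.2.2.2 S hAS

end GrothLib.GeomReg
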