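import Groth.Agent.Lib.GeomReg.Comp
import Mathlib.FieldTheory.PurelyInseparable.PerfectClosure
import Mathlib.FieldTheory.IsAlgClosed.AlgebraicClosure

/-!
# Geometric regularity is tested by purely inseparable extensions
-/

universe u

open TensorProduct IntermediateField

namespace GrothLib.GeomReg

theorem exists_separable_over_insep (k K : Type u) [Field k] [Field K] [Algebra k K] [Module.Finite k K] :
    ∃ (P0 M : Type u) (_ : Field P0) (_ : Field M) (_ : Algebra k P0) (_ : Algebra P0 M) (_ : Algebra k M)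
      (_ : Algebra K M), IsScalarTower k P0 M ∧ IsScalarTower k K M ∧ Module.Finite k P0 ∧
      IsPurelyInseparable k P0 ∧ Algebra.EssFiniteType P0 M ∧ Algebra.FormallySmooth P0 M := by
  classical
  let E := AlgebraicClosure K
  let P := perfectClosure k E
  have : Algebra.IsAlgebraic k E := Algebra.IsAlgebraic.trans k K E
  have : Algebra.IsAlgebraic P E := Algebra.IsAlgebraic.tower_top (K := k) P
  let v := Module.finBasis k K
  let X : Finset E := Finset.univ.image fun i => algebraMap K E (v i)
  let C : Finset E := X.biUnion fun x => ((minpoly P x).coeffs).image Subtype.val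
  let P0 := adjoin k (C : Set E)
  have hCP : P0 ≤ P := adjoin_le_iff.2 fun c hc => by
    obtain ⟨x, -, hc⟩ := Finset.mem_biUnion.1 hc
    obtain ⟨c', -, rfl⟩ := Finset.mem_image.1 hc
    exact c'.2
  have : IsPurelyInseparable k P0 := (le_perfectClosure_iff k E P0).1 hCP
  have hfin0 : Module.Finite k P0 := finiteDimensional_adjoin fun x _ =>
    (Algebra.IsAlgebraic.isAlgebraic x).isIntegral
  let M := adjoin P0 (X : Set E)
  have hsep : ∀ x ∈ (X : Set E), IsSeparable P0 x := by
    intro x hx
    have hsepP : (minpoly P x).Separable :=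
      PerfectField.separable_of_irreducible (minpoly.irreducible (Algebra.IsAlgebraic.isAlgebraic x).isIntegral)
    let q := (minpoly P x).map (algebraMap P E)
    have hl : q ∈ Polynomial.lifts (algebraMap P0 E) := by
      rw [Polynomial.lifts_iff_coeff_lifts]
      intro i
      rw [Polynomial.coeff_map]
      by_cases h0 : (minpoly P x).coeff i = 0
      · exact ⟨0, by rw [h0, map_zero, map_zero]⟩
      · exact ⟨⟨_, subset_adjoin k _ (Finset.mem_biUnion.2 ⟨x, hx, Finset.mem_image.2
          ⟨_, Polynomial.coeff_mem_coeffs h0, rfl⟩⟩)⟩, rfl⟩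
    obtain ⟨Q, hQ⟩ := (Polynomial.mem_lifts _).1 hl
    refine Polynomial.Separable.of_dvd (f := Q) ?_ (minpoly.dvd _ _ ?_)
    · rw [← Polynomial.separable_map (algebraMap P0 E), hQ]; exact hsepP.map
    · rw [Polynomial.aeval_def, ← Polynomial.eval_map, hQ, Polynomial.eval_map, ← Polynomial.aeval_def,
        minpoly.aeval]
  have : Algebra.IsSeparable P0 M := (isSeparable_adjoin_iff_isSeparable P0 E).2 hsep
  have : Algebra.EssFiniteType P0 M := essFiniteType_iff.2 (fg_adjoin_finset X)
  have := Algebra.FormallyEtale.of_isSeparable P0 M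
  have hKM : ∀ l : K, algebraMap K E l ∈ M := fun l => by
    rw [← v.sum_repr l, map_sum]
    refine sum_mem fun i _ => ?_
    rw [Algebra.smul_def, map_mul, ← IsScalarTower.algebraMap_apply k K E, IsScalarTower.algebraMap_apply k P0 E]
    exact mul_mem (M.algebraMap_mem _) (subset_adjoin P0 _ (Finset.mem_image_of_mem _ (Finset.mem_univ i)))
  let _ : Algebra K M := ((algebraMap K E).codRestrict M.toSubfield hKM).toAlgebra
  let _ : Algebra k M := ((algebraMap P0 M).comp (algebraMap k P0)).toAlgebra
  have : IsScalarTower k P0 M := IsScalarTower.of_algebraMap_eq fun _ => rfl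
  have : IsScalarTower k K M := IsScalarTower.of_algebraMap_eq fun x => Subtype.ext
    (IsScalarTower.algebraMap_apply k K E x)
  exact ⟨P0, M, inferInstance, inferInstance, inferInstance, inferInstance, inferInstance, inferInstance,
    inferInstance, inferInstance, hfin0, inferInstance, inferInstance, inferInstance⟩

theorem isRegularRing_tensor_of_purelyInseparable {k S : Type u} [Field k] [CommRing S] [Algebra k S]
    (hS : ∀ (k' : Type u) [Field k'] [Algebra k k'], Module.Finite k k' → IsPurelyInseparable k k' →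
      IsRegularRing (k' ⊗[k] S))
    [IsNoetherianRing S] (K : Type u) [Field K] [Algebra k K] [Module.Finite k K] : IsRegularRing (K ⊗[k] S) := by
  obtain ⟨P0, M, _, _, _, _, _, _, _, _, hfin0, _, _, _⟩ := exists_separable_over_insep k K
  have : IsRegularRing (P0 ⊗[k] S) := hS P0 hfin0 inferInstance
  have : IsRegularRing (M ⊗[P0] (P0 ⊗[k] S)) := isRegularRing_tensor_of_formallySmooth P0 M _
  have : IsRegularRing (M ⊗[k] S) :=
    IsRegularRing.of_ringEquiv (R := M ⊗[P0] (P0 ⊗[k] S))
      (Algebra.TensorProduct.cancelBaseChange k P0 M M S).toRingEquiv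
  have : IsRegularRing (M ⊗[K] (K ⊗[k] S)) :=
    IsRegularRing.of_ringEquiv (R := M ⊗[k] S)
      (Algebra.TensorProduct.cancelBaseChange k K M M S).symm.toRingEquiv
  have : IsRegularRing ((K ⊗[k] S) ⊗[K] M) :=
    IsRegularRing.of_ringEquiv (R := M ⊗[K] (K ⊗[k] S))
      (Algebra.TensorProduct.comm K M (K ⊗[k] S)).toRingEquiv
  have : IsNoetherianRing (S ⊗[k] K) := IsNoetherianRing.of_finite S _
  have : IsNoetherianRing (K ⊗[k] S) :=
    isNoetherianRing_of_ringEquiv _ (Algebra.TensorProduct.comm k S K).toRingEquiv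
  exact GrothLib.Serre.isRegularRing_of_faithfullyFlat (K ⊗[k] S) ((K ⊗[k] S) ⊗[K] M)

/-- Descent of geometric regularity along a finitely generated field extension. -/
theorem isGeometricallyRegular_of_baseChange {k S K : Type u} [Field k] [CommRing S] [Algebra k S]
    [IsNoetherianRing S] [Field K] [Algebra k K] (h : CAlg.IsGeometricallyRegular K (K ⊗[k] S)) :
    CAlg.IsGeometricallyRegular k S := by
  intro L _ _ hL
  haveI := hL
  obtain ⟨m, hm⟩ := Ideal.exists_maximal (K ⊗[k] L)
  let K' := (K ⊗[k] L) ⧸ m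
  let _ : Field K' := Ideal.Quotient.field m
  let _ : Algebra L K' := ((Ideal.Quotient.mk m).comp
    (Algebra.TensorProduct.includeRight : L →ₐ[k] K ⊗[k] L).toRingHom).toAlgebra
  have : IsScalarTower k L K' := IsScalarTower.of_algebraMap_eq fun x => by
    show (Ideal.Quotient.mk m) (algebraMap k (K ⊗[k] L) x) = (Ideal.Quotient.mk m) (1 ⊗ₜ algebraMap k L x)
    rw [show (1 : K) ⊗ₜ[k] algebraMap k L x = algebraMap k (K ⊗[k] L) x from
      ((Algebra.TensorProduct.includeRight : L →ₐ[k] K ⊗[k] L).commutes x)]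
  have : Module.Finite K K' := Module.Finite.of_surjective
    (Ideal.Quotient.mkₐ K m).toLinearMap Ideal.Quotient.mk_surjective
  have : IsRegularRing (K' ⊗[K] (K ⊗[k] S)) := h K' inferInstance
  have : IsRegularRing (K' ⊗[k] S) :=
    IsRegularRing.of_ringEquiv (R := K' ⊗[K] (K ⊗[k] S))
      (Algebra.TensorProduct.cancelBaseChange k K K' K' S).toRingEquiv
  have : IsRegularRing (K' ⊗[L] (L ⊗[k] S)) :=
    IsRegularRing.of_ringEquiv (R := K' ⊗[k] S)
      (Algebra.TensorProduct.cancelBaseChange k L K' K' S).symm.toRingEquiv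
  have : IsRegularRing ((L ⊗[k] S) ⊗[L] K') :=
    IsRegularRing.of_ringEquiv (R := K' ⊗[L] (L ⊗[k] S))
      (Algebra.TensorProduct.comm L K' (L ⊗[k] S)).toRingEquiv
  have : IsNoetherianRing (S ⊗[k] L) := IsNoetherianRing.of_finite S _
  have : IsNoetherianRing (L ⊗[k] S) :=
    isNoetherianRing_of_ringEquiv _ (Algebra.TensorProduct.comm k S L).toRingEquiv
  exact GrothLib.Serre.isRegularRing_of_faithfullyFlat (L ⊗[k] S) ((L ⊗[k] S) ⊗[L] K')

end GrothLib.GeomReg
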