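import Groth.Agent.Lib.GeomReg.Comp
import Groth.Agent.Lib.Flatness.Fibre
import Mathlib.RingTheory.Flat.Localization
import Mathlib.RingTheory.Localization.BaseChange

/-!
# Regular homomorphisms: locality, descent
-/

universe u

open TensorProduct

namespace GrothLib.GeomReg

variable {R S S' : Type u} [CommRing R] [CommRing S] [CommRing S']

/-- A flat algebra is regular iff its base changes to fields essentially of finite type are regular
rings. -/
theorem isRegularHom_iff [Algebra R S] : CAlg.IsRegularHom R S ↔ Module.Flat R S ∧
    ∀ (K : Type u) [Field K] [Algebra R K], Algebra.EssFiniteType R K → IsRegularRing (K ⊗[R] S) := by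
  refine ⟨fun h => ⟨h.1, fun K _ _ _ => isRegularRing_field_tensor h K⟩,
    fun h => ⟨h.1, fun p _ => ⟨(have := h.2 p.ResidueField inferInstance; inferInstance),
      fun L _ _ hL => ?_⟩⟩⟩
  let _ : Algebra R L := ((algebraMap p.ResidueField L).comp (algebraMap R p.ResidueField)).toAlgebra
  have : IsScalarTower R p.ResidueField L := IsScalarTower.of_algebraMap_eq fun _ => rfl
  have := h.2 L (.comp R p.ResidueField L)
  exact IsRegularRing.of_ringEquiv (R := L ⊗[R] S)
    (Algebra.TensorProduct.cancelBaseChange R p.ResidueField L L S).symm.toRingEquiv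

variable [Algebra R S] [Algebra R S'] [Algebra S S'] [IsScalarTower R S S']

theorem isRegularRing_tensor_localization (M : Submonoid S) [IsLocalization M S'] (K : Type u)
    [CommRing K] [Algebra R K] [IsRegularRing (K ⊗[R] S)] : IsRegularRing (K ⊗[R] S') := by
  have : IsRegularRing (S ⊗[R] K) :=
    IsRegularRing.of_ringEquiv (R := K ⊗[R] S) (Algebra.TensorProduct.comm R K S).toRingEquiv
  have : IsRegularRing ((S ⊗[R] K) ⊗[S] S') :=
    isRegularRing_of_isLocalization (Algebra.algebraMapSubmonoid (S ⊗[R] K) M) _
  exact IsRegularRing.of_ringEquiv (R := (S ⊗[R] K) ⊗[S] S')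
    ((Algebra.TensorProduct.comm S (S ⊗[R] K) S').toRingEquiv.trans
      ((Algebra.TensorProduct.cancelBaseChange R S S' S' K).toRingEquiv.trans
        (Algebra.TensorProduct.comm R S' K).toRingEquiv))

/-- Regular homomorphisms can be localized at the target. -/
theorem isRegularHom_localization_right (h : CAlg.IsRegularHom R S) (M : Submonoid S)
    [IsLocalization M S'] : CAlg.IsRegularHom R S' := by
  rw [isRegularHom_iff] at h ⊢
  have := h.1
  have : Module.Flat S S' := IsLocalization.flat S' M
  refine ⟨Module.Flat.trans R S S', fun K _ _ hK => ?_⟩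
  have := h.2 K hK
  exact isRegularRing_tensor_localization M K

omit [Algebra S S'] [IsScalarTower R S S'] in
/-- Regular homomorphisms can be localized at the source. -/
theorem isRegularHom_localization_left {R' : Type u} [CommRing R'] [Algebra R R'] (M : Submonoid R)
    [IsLocalization M R'] [Algebra R' S] [IsScalarTower R R' S] :
    CAlg.IsRegularHom R' S ↔ CAlg.IsRegularHom R S := by
  have : Algebra.EssFiniteType R R' := .of_isLocalization _ M
  rw [isRegularHom_iff, isRegularHom_iff, Module.flat_iff_of_isLocalization R' M]
  refine and_congr_right fun hflat => ⟨fun h K _ _ hK => ?_, fun h K _ _ hK => ?_⟩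
  · by_cases hM : ∀ y : M, IsUnit (algebraMap R K y)
    · let _ : Algebra R' K := (IsLocalization.lift (S := R') hM).toAlgebra
      have : IsScalarTower R R' K :=
        IsScalarTower.of_algebraMap_eq fun x => (IsLocalization.lift_eq hM x).symm
      have := h K (.of_comp R R' K)
      exact IsRegularRing.of_ringEquiv (R := K ⊗[R'] S)
        (IsLocalization.algebraTensorEquiv M R' K S).toRingEquiv
    · have : Subsingleton (K ⊗[R] S) := by
        push Not at hM
        obtain ⟨y, hy⟩ := hM
        have h0 : algebraMap R K y = 0 := by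
          by_contra hne; exact hy (isUnit_iff_ne_zero.2 hne)
        obtain ⟨z, hz⟩ := isUnit_iff_exists_inv.1
          (((IsLocalization.map_units R' y).map (algebraMap R' S)).map
            (Algebra.TensorProduct.includeRight : S →ₐ[R] K ⊗[R] S))
        rw [← IsScalarTower.algebraMap_apply, AlgHom.commutes,
          IsScalarTower.algebraMap_apply R K (K ⊗[R] S), h0, map_zero, zero_mul] at hz
        exact subsingleton_iff_zero_eq_one.1 hz
      rw [isRegularRing_iff]
      exact fun p hp => absurd (Ideal.eq_top_iff_one p |>.2
        (by rw [Subsingleton.elim (1 : K ⊗[R] S) 0]; exact p.zero_mem)) hp.ne_top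
  · let _ : Algebra R K := ((algebraMap R' K).comp (algebraMap R R')).toAlgebra
    have : IsScalarTower R R' K := IsScalarTower.of_algebraMap_eq fun _ => rfl
    have := h K (.comp R R' K)
    exact IsRegularRing.of_ringEquiv (R := K ⊗[R] S)
      (IsLocalization.algebraTensorEquiv M R' K S).symm.toRingEquiv

/-- Regular homomorphisms descend along faithfully flat maps. -/
theorem isRegularHom_of_faithfullyFlat [Module.FaithfullyFlat S S'] (h : CAlg.IsRegularHom R S') :
    CAlg.IsRegularHom R S := by
  rw [isRegularHom_iff] at h ⊢
  have := h.1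
  refine ⟨Flatness.flat_of_faithfullyFlat (R := R) (S := S) (M := S'), fun K _ _ hK => ?_⟩
  have := h.2 K hK
  have : IsRegularRing ((S ⊗[R] K) ⊗[S] S') :=
    IsRegularRing.of_ringEquiv (R := K ⊗[R] S')
      ((Algebra.TensorProduct.comm S (S ⊗[R] K) S').toRingEquiv.trans
        ((Algebra.TensorProduct.cancelBaseChange R S S' S' K).toRingEquiv.trans
          (Algebra.TensorProduct.comm R S' K).toRingEquiv)).symm
  have := GrothLib.Serre.isRegularRing_of_faithfullyFlat (S ⊗[R] K) ((S ⊗[R] K) ⊗[S] S')
  exact IsRegularRing.of_ringEquiv (R := S ⊗[R] K) (Algebra.TensorProduct.comm R S K).toRingEquiv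

omit [Algebra S S'] [IsScalarTower R S S'] in
/-- Regularity of a homomorphism can be checked at the maximal ideals of the target. -/
theorem isRegularHom_of_forall_isMaximal [IsNoetherianRing S]
    (h : ∀ (n : Ideal S) [n.IsMaximal], CAlg.IsRegularHom R (Localization.AtPrime n)) :
    CAlg.IsRegularHom R S := by
  rw [isRegularHom_iff]
  refine ⟨Module.flat_of_isLocalized_maximal (R := R) (S := S) (M := S)
    (fun n _ => Localization.AtPrime n) (fun n _ => Algebra.linearMap S _) fun n _ => (h n).1,
    fun K _ _ hK => ?_⟩
  have : Algebra.EssFiniteType S (S ⊗[R] K) := inferInstance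
  have : IsNoetherianRing (S ⊗[R] K) := Algebra.EssFiniteType.isNoetherianRing S _
  suffices IsRegularRing (S ⊗[R] K) from
    IsRegularRing.of_ringEquiv (R := S ⊗[R] K) (Algebra.TensorProduct.comm R S K).toRingEquiv
  refine GrothLib.Serre.isRegularRing_of_forall_isMaximal _ fun M _ => ?_
  obtain ⟨n, hn, hMn⟩ := Ideal.exists_le_maximal (M.comap (algebraMap S (S ⊗[R] K)))
    (Ideal.IsPrime.ne_top inferInstance)
  let T := (S ⊗[R] K) ⊗[S] Localization.AtPrime n
  have : IsRegularRing (K ⊗[R] Localization.AtPrime n) := isRegularRing_field_tensor (h n) K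
  have : IsRegularRing T :=
    IsRegularRing.of_ringEquiv (R := K ⊗[R] Localization.AtPrime n)
      ((Algebra.TensorProduct.comm S (S ⊗[R] K) (Localization.AtPrime n)).toRingEquiv.trans
        ((Algebra.TensorProduct.cancelBaseChange R S (Localization.AtPrime n)
          (Localization.AtPrime n) K).toRingEquiv.trans
          (Algebra.TensorProduct.comm R (Localization.AtPrime n) K).toRingEquiv)).symm
  let N := Algebra.algebraMapSubmonoid (S ⊗[R] K) n.primeCompl
  have hdisj : Disjoint (N : Set (S ⊗[R] K)) M := by
    rw [Set.disjoint_left]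
    rintro _ ⟨x, hx, rfl⟩ hM
    exact hx (hMn hM)
  set Q := M.map (algebraMap (S ⊗[R] K) T) with hQdef
  have : Q.IsPrime := IsLocalization.isPrime_of_isPrime_disjoint N T M inferInstance hdisj
  have hc : Q.comap (algebraMap (S ⊗[R] K) T) = M :=
    IsLocalization.comap_map_of_isPrime_disjoint N T inferInstance hdisj
  have : IsRegularLocalRing (Localization.AtPrime Q) :=
    IsRegularRing.isRegularLocalRing_localization Q
  have : IsLocalization.AtPrime (Localization.AtPrime Q) M := by
    have := IsLocalization.isLocalization_isLocalization_atPrime_isLocalization N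
      (Localization.AtPrime Q) Q
    simpa [hc] using this
  exact IsRegularLocalRing.of_ringEquiv (R := Localization.AtPrime Q)
    (IsLocalization.algEquiv M.primeCompl (Localization.AtPrime Q) _).toRingEquiv

end GrothLib.GeomReg
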