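import Groth.Agent.Lib.GeomReg.Basic
import Groth.Agent.Lib.LocProp.RegularSmooth
import Mathlib.FieldTheory.SeparablyGenerated
import Mathlib.FieldTheory.IsAlgClosed.AlgebraicClosure
import Mathlib.RingTheory.AlgebraicIndependent.AlgebraicClosure

/-!
# Geometric regularity with respect to finitely generated field extensions
-/

universe u

open TensorProduct

namespace GrothLib.GeomReg

/-- Localizations of regular rings are regular. -/
theorem isRegularRing_of_isLocalization {R : Type u} [CommRing R] [IsRegularRing R] (M : Submonoid R)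
    (S : Type u) [CommRing S] [Algebra R S] [IsLocalization M S] : IsRegularRing S := by
  have : IsNoetherianRing S := IsLocalization.isNoetherianRing M S inferInstance
  rw [isRegularRing_iff]
  intro q _
  have h := IsLocalization.isLocalization_isLocalization_atPrime_isLocalization M (Localization.AtPrime q) q
  exact IsRegularLocalRing.of_ringEquiv (R := Localization.AtPrime (q.comap (algebraMap R S)))
    (IsLocalization.algEquiv (q.comap (algebraMap R S)).primeCompl _ (Localization.AtPrime q)).toRingEquiv

/-- Regular rings stay regular after a formally smooth finitely generated extension of the base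
field. -/
theorem isRegularRing_tensor_of_formallySmooth (k M R : Type u) [Field k] [Field M] [Algebra k M]
    [Algebra.EssFiniteType k M] [Algebra.FormallySmooth k M] [CommRing R] [Algebra k R]
    [IsRegularRing R] : IsRegularRing (M ⊗[k] R) := by
  let B := Algebra.EssFiniteType.subalgebra k M
  have : IsFractionRing B M := IsFractionRing.of_field B M fun z => by
    obtain ⟨a, b, rfl⟩ := IsLocalization.exists_mk'_eq (Algebra.EssFiniteType.submonoid k M) z
    refine ⟨a, b, ?_⟩
    have hb : algebraMap B M b ≠ 0 := (IsLocalization.map_units M b).ne_zero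
    rw [eq_div_iff hb, IsLocalization.mk'_spec]
  have hbot : (⊥ : Ideal B).primeCompl = nonZeroDivisors B := Ideal.primeCompl_bot
  have : IsLocalization (⊥ : Ideal B).primeCompl M := by rw [hbot]; infer_instance
  let e1 : M ≃ₐ[B] Localization.AtPrime (⊥ : Ideal B) :=
    IsLocalization.algEquiv (⊥ : Ideal B).primeCompl _ _
  let e1' : M ≃ₐ[k] Localization.AtPrime (⊥ : Ideal B) := e1.restrictScalars k
  have : IsRegularLocalRing (Localization.AtPrime (⊥ : Ideal B)) :=
    IsRegularLocalRing.of_ringEquiv (R := M) e1.toRingEquiv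
  let r : M →ₐ[k] IsLocalRing.ResidueField (Localization.AtPrime (⊥ : Ideal B)) :=
    (IsScalarTower.toAlgHom k (Localization.AtPrime (⊥ : Ideal B)) _).comp e1'.toAlgHom
  have : Algebra.FormallySmooth k (IsLocalRing.ResidueField (Localization.AtPrime (⊥ : Ideal B))) :=
    .of_equiv (AlgEquiv.ofBijective r ⟨r.toRingHom.injective,
      IsLocalRing.residue_surjective.comp e1'.surjective⟩)
  have hsm : Algebra.IsSmoothAt k (⊥ : Ideal B) :=
    GrothLib.LocProp.isSmoothAt_of_isRegularLocalRing _
  have : Algebra.FinitePresentation k B := Algebra.FinitePresentation.of_finiteType.mp inferInstance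
  obtain ⟨f, hf, hfsm⟩ := Algebra.IsSmoothAt.exists_notMem_smooth k (⊥ : Ideal B)
  have hf0 : algebraMap B M f ≠ 0 := fun h => hf ((Ideal.mem_bot).2
    (IsFractionRing.injective B M (h.trans (map_zero _).symm)))
  let B' := Localization.Away f
  let _ : Algebra B' M := (IsLocalization.Away.lift f (isUnit_iff_ne_zero.2 hf0) :
    B' →+* M).toAlgebra
  have : IsScalarTower B B' M :=
    IsScalarTower.of_algebraMap_eq fun x => (IsLocalization.Away.lift_eq f _ x).symm
  have : IsScalarTower k B' M := IsScalarTower.of_algebraMap_eq fun x => by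
    rw [IsScalarTower.algebraMap_apply k B B', ← IsScalarTower.algebraMap_apply B B' M,
      ← IsScalarTower.algebraMap_apply k B M]
  have : IsFractionRing B' M :=
    IsFractionRing.isFractionRing_of_isDomain_of_isLocalization (Submonoid.powers f) B' M
  have : IsRegularRing (R ⊗[k] B') := isRegularRing_of_smooth R _
  let T := B' ⊗[k] R
  have : IsRegularRing T :=
    IsRegularRing.of_ringEquiv (R := R ⊗[k] B') (Algebra.TensorProduct.comm k R B').toRingEquiv
  have : IsRegularRing (T ⊗[B'] M) :=
    isRegularRing_of_isLocalization (Algebra.algebraMapSubmonoid T (nonZeroDivisors B')) _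
  have : IsRegularRing (M ⊗[B'] (B' ⊗[k] R)) :=
    IsRegularRing.of_ringEquiv (R := T ⊗[B'] M) (Algebra.TensorProduct.comm B' T M).toRingEquiv
  exact IsRegularRing.of_ringEquiv (R := M ⊗[B'] (B' ⊗[k] R))
    (Algebra.TensorProduct.cancelBaseChange k B' M M R).toRingEquiv

open IntermediateField in
/-- A finitely generated field extension becomes separably generated after a finite extension. -/
theorem exists_formallySmooth_extension (k L : Type u) [Field k] [Field L] [Algebra k L]
    [Algebra.EssFiniteType k L] :
    ∃ (k' M : Type u) (_ : Field k') (_ : Field M) (_ : Algebra k k') (_ : Algebra k' M)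
      (_ : Algebra k M) (_ : Algebra L M), IsScalarTower k k' M ∧ IsScalarTower k L M ∧
      Module.Finite k k' ∧ Algebra.EssFiniteType k' M ∧ Algebra.FormallySmooth k' M := by
  classical
  let E := AlgebraicClosure L
  let kb : IntermediateField k E := algebraicClosure k E
  have : IsAlgClosed kb := IsAlgClosure.isAlgClosed k
  obtain ⟨s, hs⟩ := IntermediateField.fg_top k L
  let X : Finset E := s.image (algebraMap L E)
  let Mb := adjoin kb (X : Set E)
  have : Algebra.EssFiniteType kb Mb := essFiniteType_iff.2 (fg_adjoin_finset X)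
  obtain ⟨t, ht, hsep⟩ := exists_isTranscendenceBasis_and_isSeparable_of_perfectField kb Mb
  let Y : Finset E := t.image Subtype.val
  -- descend finitely many elements to a finite extension of `k`
  have descend : ∀ (C : Finset E) (Z : Set E), (∀ c ∈ C, c ∈ adjoin kb Z) →
      ∃ F : Finset E, (F : Set E) ⊆ kb ∧ ∀ c ∈ C, c ∈ adjoin k ((F : Set E) ∪ Z) := by
    intro C Z hC
    have h : ∀ c ∈ C, ∃ F : Finset E, (F : Set E) ⊆ kb ∧ c ∈ adjoin k ((F : Set E) ∪ Z) := by
      intro c hc
      have hc' : c ∈ adjoin k ((kb : Set E) ∪ Z) := by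
        rw [← restrictScalars_adjoin]; exact hC c hc
      obtain ⟨T, hT, hcT⟩ := exists_finset_of_mem_adjoin hc'
      refine ⟨T.filter (· ∈ kb), fun x hx => (Finset.mem_filter.1 hx).2,
        adjoin.mono k _ _ (fun x hx => ?_) hcT⟩
      rcases hT hx with h | h
      · exact Or.inl (Finset.mem_filter.2 ⟨hx, h⟩)
      · exact Or.inr h
    choose G hG1 hG2 using h
    refine ⟨C.attach.biUnion fun c => G c.1 c.2, fun x hx => ?_, fun c hc => ?_⟩
    · obtain ⟨c, -, hx⟩ := Finset.mem_biUnion.1 hx
      exact hG1 c.1 c.2 hx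
    · refine adjoin.mono k _ _ (Set.union_subset_union_left _ fun x hx => ?_) (hG2 c hc)
      exact Finset.mem_biUnion.2 ⟨⟨c, hc⟩, Finset.mem_attach _ _, hx⟩
  -- separable polynomials for the generators
  have hpol : ∀ x ∈ X, ∃ P : Polynomial E, P.Separable ∧ P.eval x = 0 ∧
      ∀ i, P.coeff i ∈ adjoin kb (Y : Set E) := by
    intro x hx
    let xm : Mb := ⟨x, subset_adjoin _ _ hx⟩
    let T := adjoin kb (t : Set Mb)
    let q := minpoly T xm
    have hq : q.Separable := Algebra.IsSeparable.isSeparable T xm
    refine ⟨q.map (Mb.val.toRingHom.comp (algebraMap T Mb)), Polynomial.Separable.map hq, ?_, fun i => ?_⟩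
    · rw [Polynomial.eval_map, show x = Mb.val.toRingHom xm from rfl, ← Polynomial.hom_eval₂,
        ← Polynomial.aeval_def, minpoly.aeval, map_zero]
    · rw [Polynomial.coeff_map]
      have h : ((q.coeff i : Mb) : E) ∈ (adjoin kb (t : Set Mb)).map Mb.val := ⟨_, (q.coeff i).2, rfl⟩
      rw [adjoin_map, ← Finset.coe_image] at h
      exact h
  choose P hP1 hP2 hP3 using hpol
  obtain ⟨F₁, hF₁, hY⟩ := descend Y (X : Set E) fun c hc => by
    obtain ⟨a, -, rfl⟩ := Finset.mem_image.1 hc
    exact a.2
  obtain ⟨F₂, hF₂, hcoef⟩ := descend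
    (X.attach.biUnion fun x => (P x.1 x.2).coeffs) (Y : Set E) fun c hc => by
    obtain ⟨x, -, hc⟩ := Finset.mem_biUnion.1 hc
    obtain ⟨i, -, rfl⟩ := Polynomial.mem_coeffs_iff.1 hc
    exact hP3 _ _ i
  let F := F₁ ∪ F₂
  let k' := adjoin k (F : Set E)
  have hFkb : (F : Set E) ⊆ kb := by
    rw [Finset.coe_union]; exact Set.union_subset hF₁ hF₂
  have hfin : Module.Finite k k' := finiteDimensional_adjoin fun x hx =>
    (mem_algebraicClosure_iff.1 (hFkb hx)).isIntegral
  let T0 := adjoin k' (Y : Set E)
  let M := adjoin T0 (X : Set E)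
  have hindep : AlgebraicIndependent k' (fun y : (Y : Set E) => (y : E)) := by
    have h1 : AlgebraicIndependent kb (Mb.val ∘ ((↑) : t → Mb)) := ht.1.map' Subtype.val_injective
    have h2 : AlgebraicIndependent k (Mb.val ∘ ((↑) : t → Mb)) :=
      h1.restrictScalars (algebraMap k kb).injective
    have hr : Set.range (Mb.val ∘ ((↑) : t → Mb)) = (Y : Set E) := by
      simp [Y, Set.range_comp]
    have h3 := h2.to_subtype_range
    rw [hr] at h3
    exact h3.extendScalars k'
  have : Algebra.FormallySmooth k' T0 := by
    have := Algebra.FormallySmooth.adjoin_of_algebraicIndependent hindep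
    rwa [Subtype.range_coe] at this
  have hsepX : ∀ x ∈ (X : Set E), IsSeparable T0 x := by
    intro x hx
    have hl : P x hx ∈ Polynomial.lifts (algebraMap T0 E) := by
      rw [Polynomial.lifts_iff_coeff_lifts]
      intro i
      by_cases h0 : (P x hx).coeff i = 0
      · exact ⟨0, by rw [h0, map_zero]⟩
      have hm : (P x hx).coeff i ∈ adjoin k ((F₂ : Set E) ∪ Y) := hcoef _
        (Finset.mem_biUnion.2 ⟨⟨x, hx⟩, Finset.mem_attach _ _, Polynomial.coeff_mem_coeffs h0⟩)
      have hle : adjoin k ((F₂ : Set E) ∪ Y) ≤ T0.restrictScalars k := by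
        rw [adjoin_le_iff]
        rintro z (hz | hz)
        · exact T0.algebraMap_mem ⟨z, subset_adjoin k _ (Finset.mem_union_right _ hz)⟩
        · exact subset_adjoin k' _ hz
      exact ⟨⟨_, hle hm⟩, rfl⟩
    obtain ⟨Q, hQ⟩ := (Polynomial.mem_lifts _).1 hl
    refine Polynomial.Separable.of_dvd (f := Q) ?_ (minpoly.dvd _ _ ?_)
    · rw [← Polynomial.separable_map (algebraMap T0 E), hQ]; exact hP1 x hx
    · rw [Polynomial.aeval_def, ← Polynomial.eval_map, hQ]; exact hP2 x hx
  have : Algebra.IsSeparable T0 M := (isSeparable_adjoin_iff_isSeparable T0 E).2 hsepX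
  have : Algebra.FormallyEtale T0 M := Algebra.FormallyEtale.of_isSeparable _ _
  have : Algebra.FormallySmooth k' M := .comp k' T0 M
  have : Algebra.EssFiniteType k' T0 := essFiniteType_iff.2 (fg_adjoin_finset Y)
  have : Algebra.EssFiniteType T0 M := essFiniteType_iff.2 (fg_adjoin_finset X)
  have : Algebra.EssFiniteType k' M := .comp k' T0 M
  have hX : adjoin k (X : Set E) ≤ (M.restrictScalars k').restrictScalars k := by
    rw [adjoin_le_iff]; exact fun z hz => subset_adjoin T0 _ hz
  have hLM : ∀ l : L, algebraMap L E l ∈ M := fun l => by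
    have h : algebraMap L E l ∈ (adjoin k (s : Set L)).map (IsScalarTower.toAlgHom k L E) :=
      ⟨l, by rw [hs]; trivial, rfl⟩
    rw [adjoin_map] at h
    exact hX (by simpa [X] using h)
  let _ : Algebra L M := ((algebraMap L E).codRestrict M.toSubfield hLM).toAlgebra
  let _ : Algebra k M := ((algebraMap k' M).comp (algebraMap k k')).toAlgebra
  have : IsScalarTower k k' M := IsScalarTower.of_algebraMap_eq fun _ => rfl
  exact ⟨k', M, inferInstance, inferInstance, inferInstance, inferInstance, inferInstance,
    inferInstance, inferInstance, IsScalarTower.of_algebraMap_eq fun x => Subtype.ext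
      (IsScalarTower.algebraMap_apply k L E x), hfin, inferInstance, inferInstance⟩

/-- A geometrically regular algebra stays regular after every finitely generated field
extension. -/
theorem isRegularRing_tensor_of_essFiniteType {k S : Type u} [Field k] [CommRing S] [Algebra k S]
    (hS : CAlg.IsGeometricallyRegular k S) (L : Type u) [Field L] [Algebra k L]
    [Algebra.EssFiniteType k L] : IsRegularRing (L ⊗[k] S) := by
  obtain ⟨k', M, _, _, _, _, _, _, _, _, hfin, _, _⟩ := exists_formallySmooth_extension k L
  have : IsRegularRing (k' ⊗[k] S) := hS k' hfin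
  have : IsRegularRing (M ⊗[k'] (k' ⊗[k] S)) := isRegularRing_tensor_of_formallySmooth k' M _
  have : IsRegularRing (M ⊗[k] S) :=
    IsRegularRing.of_ringEquiv (R := M ⊗[k'] (k' ⊗[k] S))
      (Algebra.TensorProduct.cancelBaseChange k k' M M S).toRingEquiv
  have : IsRegularRing (M ⊗[L] (L ⊗[k] S)) :=
    IsRegularRing.of_ringEquiv (R := M ⊗[k] S)
      (Algebra.TensorProduct.cancelBaseChange k L M M S).symm.toRingEquiv
  have : IsRegularRing ((L ⊗[k] S) ⊗[L] M) :=
    IsRegularRing.of_ringEquiv (R := M ⊗[L] (L ⊗[k] S))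
      (Algebra.TensorProduct.comm L M (L ⊗[k] S)).toRingEquiv
  exact GrothLib.Serre.isRegularRing_of_faithfullyFlat (L ⊗[k] S) ((L ⊗[k] S) ⊗[L] M)

end GrothLib.GeomReg
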