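import Groth.Agent.Lib.GeomReg.FG

/-!
# Regular homomorphisms: composition and base change
-/

universe u

open TensorProduct

namespace GrothLib.GeomReg

variable {A B C : Type u} [CommRing A] [CommRing B] [CommRing C]

/-- The base change of a regular homomorphism to a field essentially of finite type is a regular
ring. -/
theorem isRegularRing_field_tensor [Algebra B C] (h : CAlg.IsRegularHom B C) (K : Type u) [Field K]
    [Algebra B K] [Algebra.EssFiniteType B K] : IsRegularRing (K ⊗[B] C) := by
  let p := RingHom.ker (algebraMap B K)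
  have hp : p.IsPrime := RingHom.ker_isPrime _
  let φ : p.ResidueField →+* K := Ideal.ResidueField.lift p (algebraMap B K) le_rfl
    (fun x hx => isUnit_iff_ne_zero.2 hx)
  let _ : Algebra p.ResidueField K := φ.toAlgebra
  have : IsScalarTower B p.ResidueField K := IsScalarTower.of_algebraMap_eq fun x =>
    (Ideal.ResidueField.lift_algebraMap p _ _ _ x).symm
  have : Algebra.EssFiniteType p.ResidueField K := .of_comp B _ _
  have : IsRegularRing (K ⊗[p.ResidueField] (p.Fiber C)) :=
    isRegularRing_tensor_of_essFiniteType (h.2 p).2 K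
  exact IsRegularRing.of_ringEquiv (R := K ⊗[p.ResidueField] (p.Fiber C))
    (Algebra.TensorProduct.cancelBaseChange B p.ResidueField K K C).toRingEquiv

/-- The base change of a regular homomorphism to a regular ring essentially of finite type is
regular, if it is Noetherian. -/
theorem isRegularRing_tensor [Algebra B C] (h : CAlg.IsRegularHom B C) (B' : Type u) [CommRing B']
    [Algebra B B'] [Algebra.EssFiniteType B B'] [IsRegularRing B'] [IsNoetherianRing (B' ⊗[B] C)] :
    IsRegularRing (B' ⊗[B] C) := by
  have := h.1
  refine GrothLib.Serre.isRegularRing_of_flat_of_fibres B' (B' ⊗[B] C) fun Q _ => ?_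
  have : Algebra.EssFiniteType B Q.ResidueField := .comp B B' _
  have := isRegularRing_field_tensor h Q.ResidueField
  exact IsRegularRing.of_ringEquiv (R := Q.ResidueField ⊗[B] C)
    (Algebra.TensorProduct.cancelBaseChange B B' B' Q.ResidueField C).symm.toRingEquiv

/-- The composition of regular homomorphisms with Noetherian fibres is regular. -/
theorem isRegularHom_comp [Algebra A B] [Algebra B C] [Algebra A C] [IsScalarTower A B C]
    (hAB : CAlg.IsRegularHom A B) (hBC : CAlg.IsRegularHom B C)
    (hN : ∀ (p : Ideal A) [p.IsPrime], IsNoetherianRing (p.Fiber C)) :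
    CAlg.IsRegularHom A C := by
  have := hAB.1
  have := hBC.1
  refine ⟨Module.Flat.trans A B C, fun p _ => ⟨hN p, fun L _ _ hL => ?_⟩⟩
  let _ : Algebra A L := ((algebraMap p.ResidueField L).comp (algebraMap A p.ResidueField)).toAlgebra
  have : IsScalarTower A p.ResidueField L := IsScalarTower.of_algebraMap_eq fun _ => rfl
  have : Algebra.EssFiniteType A L := .comp A p.ResidueField L
  have : IsRegularRing (L ⊗[A] B) := isRegularRing_field_tensor hAB L
  have : IsRegularRing (B ⊗[A] L) :=
    IsRegularRing.of_ringEquiv (R := L ⊗[A] B) (Algebra.TensorProduct.comm A L B).toRingEquiv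
  have : IsNoetherianRing (p.Fiber C) := hN p
  have : Algebra.FiniteType (p.Fiber C) ((p.Fiber C) ⊗[p.ResidueField] L) := inferInstance
  have : IsNoetherianRing ((p.Fiber C) ⊗[p.ResidueField] L) :=
    Algebra.FiniteType.isNoetherianRing (p.Fiber C) ((p.Fiber C) ⊗[p.ResidueField] L)
  have : IsNoetherianRing (L ⊗[p.ResidueField] (p.Fiber C)) :=
    isNoetherianRing_of_ringEquiv _ (Algebra.TensorProduct.comm p.ResidueField (p.Fiber C) L).toRingEquiv
  let e : L ⊗[p.ResidueField] (p.Fiber C) ≃+* (B ⊗[A] L) ⊗[B] C :=
    (Algebra.TensorProduct.cancelBaseChange A p.ResidueField L L C).toRingEquiv.trans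
      ((Algebra.TensorProduct.comm A L C).toRingEquiv.trans
        ((Algebra.TensorProduct.cancelBaseChange A B C C L).symm.toRingEquiv.trans
          (Algebra.TensorProduct.comm B C (B ⊗[A] L)).toRingEquiv))
  have : IsNoetherianRing ((B ⊗[A] L) ⊗[B] C) := isNoetherianRing_of_ringEquiv _ e
  have := isRegularRing_tensor hBC (B ⊗[A] L)
  exact IsRegularRing.of_ringEquiv (R := (B ⊗[A] L) ⊗[B] C) e.symm

/-- Regular homomorphisms are stable under base change of finite type. -/
theorem isRegularHom_baseChange [Algebra A B] [Algebra A C] [Algebra.EssFiniteType A C]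
    (h : CAlg.IsRegularHom A B) : CAlg.IsRegularHom C (C ⊗[A] B) := by
  have := h.1
  refine ⟨inferInstance, fun q _ => ?_⟩
  have : Algebra.EssFiniteType A q.ResidueField := .comp A C _
  have : IsRegularRing (q.ResidueField ⊗[A] B) := isRegularRing_field_tensor h _
  let e : q.Fiber (C ⊗[A] B) ≃+* q.ResidueField ⊗[A] B :=
    (Algebra.TensorProduct.cancelBaseChange A C C q.ResidueField B).toRingEquiv
  refine ⟨isNoetherianRing_of_ringEquiv _ e.symm, fun L _ _ hL => ?_⟩
  let _ : Algebra C L := ((algebraMap q.ResidueField L).comp (algebraMap C q.ResidueField)).toAlgebra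
  have : IsScalarTower C q.ResidueField L := IsScalarTower.of_algebraMap_eq fun _ => rfl
  let _ : Algebra A L := ((algebraMap C L).comp (algebraMap A C)).toAlgebra
  have : IsScalarTower A C L := IsScalarTower.of_algebraMap_eq fun _ => rfl
  have : Algebra.EssFiniteType C L := .comp C q.ResidueField L
  have : Algebra.EssFiniteType A L := .comp A C L
  have : IsRegularRing (L ⊗[A] B) := isRegularRing_field_tensor h L
  exact IsRegularRing.of_ringEquiv (R := L ⊗[A] B)
    ((Algebra.TensorProduct.cancelBaseChange A C C L B).symm.toRingEquiv.trans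
      (Algebra.TensorProduct.cancelBaseChange C q.ResidueField q.ResidueField L (C ⊗[A] B)).symm.toRingEquiv)

end GrothLib.GeomReg
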