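import Groth.Agent.Lib.GeomReg.Local
import Groth.Agent.Lib.SepField.Smooth
import Mathlib.RingTheory.Unramified.Finite
import Mathlib.RingTheory.Localization.Away.Lemmas
import Mathlib.FieldTheory.Separable

/-!
# Geometric regularity and change of the base field
-/

universe u

open TensorProduct

namespace GrothLib.GeomReg

variable {k K A : Type u} [Field k] [Field K] [CommRing A] [Algebra k K] [Algebra K A] [Algebra k A]
  [IsScalarTower k K A]

/-- A geometrically regular algebra gives a regular homomorphism. -/
theorem isRegularHom_of_isGeometricallyRegular (h : CAlg.IsGeometricallyRegular K A) :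
    CAlg.IsRegularHom K A :=
  isRegularHom_iff.2 ⟨inferInstance, fun L _ _ _ => isRegularRing_tensor_of_essFiniteType h L⟩

/-- Geometric regularity descends along separable extensions of the base field. -/
theorem isGeometricallyRegular_of_isSeparable [Algebra.IsSeparable k K] [IsNoetherianRing A]
    (h : CAlg.IsGeometricallyRegular K A) : CAlg.IsGeometricallyRegular k A := by
  intro L _ _ hL
  have : Algebra.IsGeometricallyReduced k K :=
    GrothLib.SepField.formallySmooth_iff_isGeometricallyReduced.1
      (have := Algebra.FormallyEtale.of_isSeparable k K; inferInstance)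
  have : Algebra.IsAlgebraic k L := Algebra.IsAlgebraic.of_finite k L
  have : IsReduced (K ⊗[k] L) :=
    isReduced_of_injective _ (Algebra.TensorProduct.comm k K L).injective
  have : IsArtinianRing (K ⊗[k] L) := IsArtinianRing.of_finite K _
  have : IsRegularRing (K ⊗[k] L) := isRegularRing_of_isArtinian_of_isReduced _
  have : IsNoetherianRing (A ⊗[k] L) := IsNoetherianRing.of_finite A _
  let e : (K ⊗[k] L) ⊗[K] A ≃+* A ⊗[k] L :=
    (Algebra.TensorProduct.comm K (K ⊗[k] L) A).toRingEquiv.trans
      (Algebra.TensorProduct.cancelBaseChange k K A A L).toRingEquiv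
  have : IsNoetherianRing ((K ⊗[k] L) ⊗[K] A) := isNoetherianRing_of_ringEquiv _ e.symm
  have := isRegularRing_tensor (isRegularHom_of_isGeometricallyRegular h) (K ⊗[k] L)
  exact IsRegularRing.of_ringEquiv (R := (K ⊗[k] L) ⊗[K] A)
    (e.trans (Algebra.TensorProduct.comm k A L).toRingEquiv)

/-- Geometric regularity passes to finite separable extensions of the base field. -/
theorem isGeometricallyRegular_of_finite_separable [Algebra.IsSeparable k K] [Module.Finite k K]
    (h : CAlg.IsGeometricallyRegular k A) : CAlg.IsGeometricallyRegular K A := by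
  intro L _ _ hL
  have := Algebra.FormallyEtale.of_isSeparable k K
  let _ : Algebra k L := ((algebraMap K L).comp (algebraMap k K)).toAlgebra
  have : IsScalarTower k K L := IsScalarTower.of_algebraMap_eq fun _ => rfl
  have : IsRegularRing (L ⊗[k] A) := h L (Module.Finite.trans K L)
  let f : L ⊗[k] A →ₐ[k] L ⊗[K] A := Algebra.TensorProduct.lift
    ((Algebra.TensorProduct.includeLeft : L →ₐ[K] L ⊗[K] A).restrictScalars k)
    ((Algebra.TensorProduct.includeRight : A →ₐ[K] L ⊗[K] A).restrictScalars k)
    (fun _ _ => .all _ _)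
  have hf : ∀ l a, f (l ⊗ₜ a) = l ⊗ₜ a := fun l a => by simp [f]
  let φ : K ⊗[k] K →ₐ[k] L ⊗[k] A := Algebra.TensorProduct.map
    (IsScalarTower.toAlgHom k K L) (IsScalarTower.toAlgHom k K A)
  let e := φ (Algebra.FormallyUnramified.elem k K)
  have he1 : f e = 1 := by
    have hcomp : f.comp φ = (((Algebra.ofId K (L ⊗[K] A)).restrictScalars k).comp
        (Algebra.TensorProduct.lmul' k)) := by
      refine Algebra.TensorProduct.ext' fun a b => ?_
      simp only [AlgHom.comp_apply, φ, Algebra.TensorProduct.map_tmul, hf,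
        Algebra.TensorProduct.lmul'_apply_tmul, IsScalarTower.coe_toAlgHom']
      show algebraMap K L a ⊗ₜ[K] algebraMap K A b = algebraMap K (L ⊗[K] A) (a * b)
      rw [Algebra.algebraMap_eq_smul_one b, tmul_smul, smul_tmul', Algebra.smul_def, ← map_mul,
        mul_comm b a]
      rfl
    have := AlgHom.congr_fun hcomp (Algebra.FormallyUnramified.elem k K)
    rw [AlgHom.comp_apply, AlgHom.comp_apply, Algebra.FormallyUnramified.lmul_elem, map_one] at this
    exact this
  have hbal : ∀ x : K, ((1 : L) ⊗ₜ[k] algebraMap K A x) * e = (algebraMap K L x ⊗ₜ[k] (1 : A)) * e := by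
    intro x
    have := congrArg φ (Algebra.FormallyUnramified.one_tmul_mul_elem (R := k) x)
    rwa [map_mul, map_mul, show φ ((1 : K) ⊗ₜ x) = 1 ⊗ₜ algebraMap K A x by simp [φ],
      show φ (x ⊗ₜ (1 : K)) = algebraMap K L x ⊗ₜ 1 by simp [φ]] at this
  let g : L ⊗[K] A →+ L ⊗[k] A := TensorProduct.liftAddHom
    { toFun := fun l =>
        { toFun := fun a => (l ⊗ₜ[k] a) * e
          map_zero' := by simp
          map_add' := fun a b => by rw [tmul_add, add_mul] }
      map_zero' := by ext; simp
      map_add' := fun l m => by ext a; simp [add_tmul, add_mul] }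
    (fun x l a => by
      show ((x • l) ⊗ₜ[k] a) * e = (l ⊗ₜ[k] (x • a)) * e
      rw [show (l ⊗ₜ[k] (x • a) : L ⊗[k] A) = (l ⊗ₜ[k] a) * (1 ⊗ₜ algebraMap K A x) by
          rw [Algebra.TensorProduct.tmul_mul_tmul, mul_one, Algebra.smul_def, mul_comm],
        mul_assoc, hbal, ← mul_assoc, Algebra.TensorProduct.tmul_mul_tmul, mul_one,
        Algebra.smul_def, mul_comm l])
  have hg : ∀ z, g (f z) = z * e := by
    intro z
    induction z using TensorProduct.induction_on with
    | zero => simp
    | tmul l a => rw [hf]; rfl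
    | add x y hx hy => rw [map_add, map_add, hx, hy, add_mul]
  have hidem : IsIdempotentElem e := by
    have h1 : g (f 1) = e := by rw [hg, one_mul]
    have h2 := hg e
    rw [he1, ← map_one f, h1] at h2
    exact h2.symm
  have hsurj : Function.Surjective f := fun w => by
    induction w using TensorProduct.induction_on with
    | zero => exact ⟨0, map_zero f⟩
    | tmul l a => exact ⟨l ⊗ₜ a, hf l a⟩
    | add x y hx hy =>
      obtain ⟨a, rfl⟩ := hx; obtain ⟨b, rfl⟩ := hy; exact ⟨a + b, map_add f a b⟩
  let _ : Algebra (L ⊗[k] A) (L ⊗[K] A) := f.toRingHom.toAlgebra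
  have : IsLocalization.Away e (L ⊗[K] A) := by
    refine IsLocalization.away_of_isIdempotentElem hidem (le_antisymm (fun z hz => ?_) ?_) hsurj
    · have h0 : z * e = 0 := by
        rw [← hg, show f z = 0 from hz, map_zero]
      exact Ideal.mem_span_singleton'.2 ⟨z, by rw [mul_sub, mul_one, h0, sub_zero]⟩
    · rw [Ideal.span_le, Set.singleton_subset_iff]
      show f (1 - e) = 0
      rw [map_sub, map_one, he1, sub_self]
  exact isRegularRing_of_isLocalization (Submonoid.powers e) _

open scoped Classical in
/-- Geometric regularity passes to directed unions of fields. -/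
theorem isGeometricallyRegular_of_directed {ι : Type u} (F : ι → Type u) [∀ i, Field (F i)]
    [∀ i, Algebra (F i) k] [Nonempty ι]
    (hdir : ∀ i j, ∃ l, Set.range (algebraMap (F i) k) ⊆ Set.range (algebraMap (F l) k) ∧
      Set.range (algebraMap (F j) k) ⊆ Set.range (algebraMap (F l) k))
    (hcov : ∀ x : k, ∃ i, x ∈ Set.range (algebraMap (F i) k))
    [∀ i, Algebra (F i) A] [∀ i, IsScalarTower (F i) k A]
    (h : ∀ i, CAlg.IsGeometricallyRegular (F i) A) : CAlg.IsGeometricallyRegular k A := by
  intro k' _ _ hk'
  let ιb := Module.Free.ChooseBasisIndex k k'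
  let b := Module.Free.chooseBasis k k'
  let consts : Finset k := (Finset.univ.image fun p : ιb × ιb × ιb => b.repr (b p.1 * b p.2.1) p.2.2) ∪
    Finset.univ.image fun m => b.repr 1 m
  have hfin : ∀ s : Finset k, ∃ i, ∀ x ∈ s, x ∈ Set.range (algebraMap (F i) k) := by
    intro s
    induction s using Finset.induction_on with
    | empty => exact ⟨Classical.arbitrary ι, by simp⟩
    | @insert a s _ ih =>
      obtain ⟨i, hi⟩ := ih
      obtain ⟨j, hj⟩ := hcov a
      obtain ⟨l, hil, hjl⟩ := hdir i j
      refine ⟨l, fun x hx => ?_⟩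
      rcases Finset.mem_insert.1 hx with rfl | hx
      · exact hjl hj
      · exact hil (hi x hx)
  obtain ⟨i, hi⟩ := hfin consts
  let _ : Algebra (F i) k' := ((algebraMap k k').comp (algebraMap (F i) k)).toAlgebra
  have : IsScalarTower (F i) k k' := IsScalarTower.of_algebraMap_eq fun _ => rfl
  let S := Submodule.span (F i) (Set.range b)
  have hmem : ∀ y : k', (∀ m, b.repr y m ∈ Set.range (algebraMap (F i) k)) → y ∈ S := by
    intro y hy
    rw [← b.sum_repr y]
    refine Submodule.sum_mem _ fun m _ => ?_
    obtain ⟨c, hc⟩ := hy m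
    rw [← hc, algebraMap_smul]
    exact Submodule.smul_mem _ _ (Submodule.subset_span ⟨m, rfl⟩)
  have h1 : (1 : k') ∈ S := hmem 1 fun m => hi _ (Finset.mem_union_right _
    (Finset.mem_image.2 ⟨m, Finset.mem_univ _, rfl⟩))
  have hmul : ∀ x y, x ∈ S → y ∈ S → x * y ∈ S := by
    intro x y hx hy
    have hle : S * S ≤ S := by
      rw [Submodule.span_mul_span, Submodule.span_le]
      rintro _ ⟨_, ⟨p, rfl⟩, _, ⟨q, rfl⟩, rfl⟩
      exact hmem _ fun m => hi _ (Finset.mem_union_left _
        (Finset.mem_image.2 ⟨(p, q, m), Finset.mem_univ _, rfl⟩))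
    exact hle (Submodule.mul_mem_mul hx hy)
  let L := S.toSubalgebra h1 hmul
  have : Module.Finite (F i) L := by
    have : Module.Finite (F i) S := Module.Finite.span_of_finite _ (Set.finite_range b)
    exact this
  have : Algebra.IsIntegral (F i) L := Algebra.IsIntegral.of_finite _ _
  let _ : Field L := (isField_of_isIntegral_of_isField' (R := F i) (Field.toIsField _)).toField
  have hli : LinearIndependent (F i) b := b.linearIndependent.restrict_scalars (fun x y hxy => by
    apply (algebraMap (F i) k).injective
    simpa [Algebra.smul_def] using hxy)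
  let bL : Module.Basis ιb (F i) L := Module.Basis.span hli
  let φ : k ⊗[F i] L →ₐ[k] k' :=
    Algebra.TensorProduct.lift (Algebra.ofId k k') L.val (fun _ _ => .all _ _)
  have hφ : φ.toLinearMap = ((Algebra.TensorProduct.basis k bL).equiv b (Equiv.refl ιb)).toLinearMap := by
    refine (Algebra.TensorProduct.basis k bL).ext fun m => ?_
    have hb : ((bL m : L) : k') = b m := congrArg Subtype.val (Module.Basis.span_apply hli m)
    rw [LinearEquiv.coe_coe, Module.Basis.equiv_apply, Algebra.TensorProduct.basis_apply]
    show φ (1 ⊗ₜ bL m) = b m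
    simp [φ, hb]
  have hbij : Function.Bijective φ := by
    have := ((Algebra.TensorProduct.basis k bL).equiv b (Equiv.refl ιb)).bijective
    rwa [← LinearEquiv.coe_coe, ← hφ] at this
  have : IsRegularRing (L ⊗[F i] A) := h i L inferInstance
  have : IsRegularRing ((k ⊗[F i] L) ⊗[k] A) :=
    IsRegularRing.of_ringEquiv (R := L ⊗[F i] A)
      ((Algebra.TensorProduct.comm k (k ⊗[F i] L) A).toRingEquiv.trans
        ((Algebra.TensorProduct.cancelBaseChange (F i) k A A L).toRingEquiv.trans
          (Algebra.TensorProduct.comm (F i) A L).toRingEquiv)).symm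
  exact IsRegularRing.of_ringEquiv (R := (k ⊗[F i] L) ⊗[k] A)
    (Algebra.TensorProduct.congr (AlgEquiv.ofBijective φ hbij) AlgEquiv.refl).toRingEquiv

end GrothLib.GeomReg
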